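import Cfsg.Prelude.Def_Spor_Mathieu
import Cfsg.Agent.H994.TwoGen.Basic
import Cfsg.Agent.H994.TwoGen.Chain
import Cfsg.Agent.J4.M24Hom
import Cfsg.Agent.H807.El.Mathieu

/-!
# Two conjugate elements of order 3 generate `M22` (helper96, S4979)
-/

set_option autoImplicit false

namespace Cfsg.Agent.H96.Quot.MTwentyTwo

open Cfsg Cfsg.Agent.H994.TwoGen Cfsg.Agent.H994.TwoGen.Chain
open Cfsg.Agent.J4.M24Hom (fn)

/-- table of `X` -/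
def tx : List ℕ := [0, 7, 11, 10, 4, 22, 18, 14, 6, 2, 15, 9, 20, 12, 1, 3, 16, 17, 8, 19, 13, 5, 21, 23]
/-- table of `X⁻¹` -/
def txi : List ℕ := [0, 14, 9, 15, 4, 21, 8, 1, 18, 11, 3, 2, 13, 20, 7, 10, 16, 17, 6, 19, 12, 22, 5, 23]
/-- table of `Y` -/
def ty : List ℕ := [0, 15, 5, 3, 10, 6, 2, 18, 7, 20, 11, 4, 1, 13, 19, 12, 14, 9, 8, 16, 17, 21, 22, 23]
/-- table of `Y⁻¹` -/
def tyi : List ℕ := [0, 12, 6, 3, 11, 2, 5, 8, 18, 17, 4, 10, 15, 13, 16, 1, 19, 20, 7, 14, 9, 21, 22, 23]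
/-- table of `T` -/
def tt : List ℕ := [0, 10, 14, 18, 22, 1, 9, 11, 17, 16, 8, 19, 6, 5, 4, 7, 13, 21, 20, 3, 2, 12, 15, 23]
/-- table of `T⁻¹` -/
def tti : List ℕ := [0, 5, 20, 19, 14, 13, 12, 15, 10, 6, 1, 7, 21, 16, 2, 22, 9, 8, 3, 11, 18, 17, 4, 23]

/-- the first generator -/
def X : Equiv.Perm GolayPt where
  toFun := fn tx
  invFun := fn txi
  left_inv := by decide +kernel
  right_inv := by decide +kernel

theorem X_mem24 : X ∈ M24 :=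
  SporadicA.GolayWalk.mem_M24_of_table X tx rfl (by decide +kernel) (by decide +kernel)

theorem X_mem : X ∈ Spor.M22 :=
  ⟨⟨X_mem24, show X none = none by decide +kernel⟩, show X (some 0) = some 0 by decide +kernel⟩

/-- the second generator -/
def Y : Equiv.Perm GolayPt where
  toFun := fn ty
  invFun := fn tyi
  left_inv := by decide +kernel
  right_inv := by decide +kernel

theorem Y_mem24 : Y ∈ M24 :=
  SporadicA.GolayWalk.mem_M24_of_table Y ty rfl (by decide +kernel) (by decide +kernel)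

theorem Y_mem : Y ∈ Spor.M22 :=
  ⟨⟨Y_mem24, show Y none = none by decide +kernel⟩, show Y (some 0) = some 0 by decide +kernel⟩

/-- the conjugating element -/
def T : Equiv.Perm GolayPt where
  toFun := fn tt
  invFun := fn tti
  left_inv := by decide +kernel
  right_inv := by decide +kernel

theorem T_mem24 : T ∈ M24 :=
  SporadicA.GolayWalk.mem_M24_of_table T tt rfl (by decide +kernel) (by decide +kernel)

theorem T_mem : T ∈ Spor.M22 :=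
  ⟨⟨T_mem24, show T none = none by decide +kernel⟩, show T (some 0) = some 0 by decide +kernel⟩

/-- the stabiliser chain -/
def chain : List (GolayPt × List (List ℕ)) :=
  [(some 1, [[], [0], [1], [2], [3], [1, 0], [3, 0], [0, 1], [2, 1], [1, 2], [3, 2], [0, 3], [2, 3], [2, 1, 0],
    [1, 2, 1], [3, 2, 1], [1, 0, 3], [3, 0, 3], [1, 2, 1, 0], [3, 2, 1, 0], [0, 3, 2, 1, 0], [2, 3, 2, 1, 0]]),
     (some 2, [[], [2, 1, 0, 1, 0], [2, 3, 2, 3, 0], [0, 3, 0, 1, 2], [1, 0, 1, 2, 3], [1, 0, 3, 2, 3], [2, 3,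
    2, 1, 2, 3, 0], [3, 0, 1, 2, 3, 2, 1], [0, 1, 2, 1, 0, 1, 2], [0, 1, 0, 1, 2, 1, 2], [3, 0, 3, 2, 3, 0, 3],
    [3, 0, 3, 0, 1, 0, 3, 0], [2, 3, 0, 3, 2, 1, 2, 1], [2, 1, 0, 3, 0, 3, 0, 1, 0], [2, 3, 2, 1, 2, 1, 2, 3,
    0], [0, 3, 2, 1, 0, 3, 2, 3, 0], [3, 2, 3, 2, 1, 0, 3, 2, 1], [1, 2, 1, 0, 3, 0, 3, 2, 1], [0, 3, 2, 3, 0,
    1, 0, 1, 2], [3, 0, 3, 2, 1, 2, 1, 0, 3], [2, 3, 0, 1, 0, 3, 2, 3, 0, 3, 0]]),
     (some 3, [[], [3, 2, 1, 0, 1], [3, 2, 3, 0, 1], [0, 1, 0, 3, 2], [0, 1, 2, 3, 2], [1, 0, 1, 0, 1, 0, 1, 2,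
    1], [3, 0, 3, 2, 3, 2, 3, 2, 3], [1, 0, 1, 0, 1, 0, 1, 0, 1, 0, 1], [1, 0, 1, 0, 1, 0, 1, 0, 3, 0, 1], [2,
    3, 2, 3, 2, 3, 2, 3, 0, 3, 2], [3, 0, 1, 0, 1, 0, 1, 2, 3, 0, 1, 0], [1, 2, 1, 2, 3, 0, 1, 2, 3, 0, 3, 0],
    [1, 2, 3, 2, 3, 2, 1, 0, 1, 2, 3, 0], [2, 1, 0, 1, 0, 1, 2, 3, 2, 1, 0, 3], [2, 1, 2, 3, 2, 3, 0, 1, 0, 1,
    0, 3, 0], [3, 0, 3, 2, 3, 2, 3, 2, 1, 2, 1, 0, 1], [3, 2, 3, 0, 3, 0, 1, 0, 1, 0, 1, 2, 1], [3, 0, 1, 2, 3,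
    2, 3, 2, 1, 0, 1, 2, 1], [1, 2, 1, 0, 1, 0, 1, 2, 3, 2, 3, 0, 3], [2, 3, 0, 1, 0, 3, 2, 1, 2, 1, 0, 1, 0,
    1]]),
     (some 4, [[], [0, 3, 0, 1, 0, 1, 0, 1, 0], [2, 3, 2, 3, 2, 3, 2, 1, 2], [1, 0, 1, 2, 1, 0, 1, 0, 3, 2, 1],
    [3, 0, 1, 2, 3, 2, 3, 0, 3, 2, 3], [1, 0, 3, 2, 3, 0, 1, 2, 1, 2, 1, 2], [0, 3, 0, 3, 0, 3, 2, 1, 0, 1, 2,
    3], [1, 0, 3, 2, 3, 0, 1, 2, 3, 0, 1, 0, 1, 0], [1, 0, 3, 2, 1, 2, 3, 2, 3, 0, 1, 2, 1, 0], [1, 0, 3, 0, 1,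
    2, 3, 2, 3, 0, 3, 2, 1, 0], [2, 3, 0, 1, 0, 3, 0, 1, 0, 1, 2, 1, 2, 1], [2, 3, 0, 3, 0, 1, 2, 3, 0, 3, 0, 3,
    2, 1], [1, 2, 3, 0, 1, 0, 1, 0, 1, 2, 1, 0, 1, 2, 1, 0], [1, 0, 3, 0, 3, 0, 1, 2, 3, 0, 1, 2, 1, 2, 1, 0],
    [3, 2, 3, 0, 3, 0, 1, 2, 1, 0, 1, 0, 3, 0, 1, 0, 1], [0, 3, 2, 1, 2, 3, 2, 1, 0, 1, 0, 1, 0, 1, 0, 1, 2]]),
     (some 5, [[], [1, 0, 1, 0, 1, 0, 1, 0, 3, 0, 1, 0, 1, 2, 3, 2], [0, 1, 0, 3, 2, 3, 2, 1, 2, 3, 2, 3, 2, 3,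
    2, 3]])]

theorem chain_ok : ok X Y [] chain = true := by decide +kernel

theorem size_chain : size chain = 443520 := by decide +kernel

theorem closure_eq : Subgroup.closure ({X, Y} : Set (Equiv.Perm GolayPt)) = Spor.M22 :=
  Chain.closure_eq X_mem Y_mem chain chain_ok (by rw [size_chain, H807.El.card_M22])

theorem conj_eq : T * X * T⁻¹ = Y := by
  apply Cfsg.Agent.J4.M24Hom.perm_ext
  decide +kernel

/-- the element of order 3 -/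
def A : Spor.M22 := ⟨X, X_mem⟩
/-- the conjugating element -/
def B : Spor.M22 := ⟨T, T_mem⟩

theorem order_A : orderOf A = 3 := by
  have := Fact.mk (show Nat.Prime 3 by norm_num)
  refine orderOf_eq_prime (Subtype.ext ?_) fun h => ?_
  · show X ^ 3 = 1
    decide +kernel
  · have h1 : X = 1 := congrArg Subtype.val h
    exact absurd h1 (by decide +kernel)

theorem closure_top : Subgroup.closure ({A, B * A * B⁻¹} : Set Spor.M22) = ⊤ := by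
  apply Subgroup.map_injective (Subgroup.subtype_injective Spor.M22)
  rw [MonoidHom.map_closure, Set.image_pair]
  have h1 : Spor.M22.subtype (B * A * B⁻¹) = Y := conj_eq
  have h2 : Spor.M22.subtype A = X := rfl
  rw [h1, h2, ← MonoidHom.range_eq_map, Subgroup.range_subtype]
  exact closure_eq

/-- **[SP1]** two conjugate elements of order 3 generate `M22` -/
theorem m22_gen : ∃ x t : ↥Spor.M22, orderOf x = 3 ∧ Subgroup.closure ({x, t * x * t⁻¹} : Set ↥Spor.M22) = ⊤ :=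
  ⟨A, B, order_A, closure_top⟩

end Cfsg.Agent.H96.Quot.MTwentyTwo
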